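import Mathlib
import Cfsg.Agent.Lib.Helper75.S4504.MainLemmaEq

set_option autoImplicit false
set_option linter.unusedSectionVars false

/-!
# S4705 module [P-DATA-A], part 1 (helper75): non-exceptional characters of degree `≤ p - 2`

`const_of_xtype` under the hypothesis `Ξ(1) + 2 ≤ p`: an X-type character of such a degree is
constant on `P`.
-/

namespace Cfsg.Agent.Lib.Helper75.PM2

open Cfsg Cfsg.Agent.Lib.Helper78 Cfsg.Agent.Lib.Helper16 Cfsg.Agent.Lib.Helper3.DefOneGen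
  Cfsg.Agent.Lib.Helper75.McKayOne Cfsg.Agent.Lib.Helper75.BHMods
  Cfsg.Agent.Lib.Helper75.BrauerHalf
open scoped ComplexConjugate IsMulCommutative

universe u

section XType

variable {G : Type u} [Group G] [Fintype G] {p : ℕ} [hp : Fact p.Prime] (P : Sylow p G)
  (hP : Nat.card P = p)
variable [Fintype ↥(Subgroup.centralizer ((P : Subgroup G) : Set G))] [Fintype ↥(P : Subgroup G)]
  [IsMulCommutative ↥(P : Subgroup G)] [Fintype (↥(P : Subgroup G) →* ℂˣ)]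
  [Fintype ↥(Subgroup.normalizer ((P : Subgroup G) : Set G))]
variable {M : Ideal AlgInt}

local notation "CP" => Subgroup.centralizer ((P : Subgroup G) : Set G)
local notation "NP" => Subgroup.normalizer ((P : Subgroup G) : Set G)

attribute [local instance] nAct

include hP in
open scoped Classical in
/-- `const_of_xtype` under the hypothesis `Ξ(1) + 2 ≤ p`. -/
theorem const_of_xtype_pm2 {Ξ : G → ℂ} (hΞ : IsCharacter G Ξ) (hdeg : charDegree Ξ + 2 ≤ p)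
    (θ : IrrCharacter ↥CP) (hθ : θ ∈ Theta P) (a : ℤ) (ha : a = 1 ∨ a = -1)
    (hfp : ∀ θ' ∈ Theta P, ∀ y : ↥(P : Subgroup G), y ≠ 1 →
      fpart p CP Ξ (θ' : ↥CP → ℂ) (y : G) =
        if θ' ∈ MulAction.orbit ↥NP θ then (a : ℂ) else 0) :
    ∀ y : G, y ∈ (P : Subgroup G) → Ξ y = Ξ 1 := by
  have hcf : IsClassFunction G Ξ := IsCharacter.isClassFunction hΞ
  have hp2 : 2 ≤ p := hp.out.two_le
  -- `gq` on `Theta`
  have hgq : ∀ θ' ∈ Theta P, gq P Ξ (θ' : ↥CP → ℂ) =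
      if θ' ∈ MulAction.orbit ↥NP θ then ((p : ℂ) - 1) * (a : ℂ) else 0 := by
    intro θ' hθ'
    unfold gq
    rw [Finset.sum_congr rfl (fun y hy => hfp θ' hθ' y (Finset.mem_filter.mp hy).2)]
    rw [Finset.sum_const, Cfsg.Agent.Lib.Helper92.BrauerHalf.card_filter_ne_one P hP]
    split_ifs
    · rw [nsmul_eq_mul, Nat.cast_sub (by omega), Nat.cast_one]
    · simp
  -- integer form: `D = p u - (p-1) a [orbit]`
  have hD : ∀ θ' ∈ Theta P, (Dn P Ξ (θ' : ↥CP → ℂ) : ℤ) =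
      (p : ℤ) * (un P Ξ (θ' : ↥CP → ℂ) : ℤ) -
        (if θ' ∈ MulAction.orbit ↥NP θ then ((p : ℤ) - 1) * a else 0) := by
    intro θ' hθ'
    have h1 := un_spec P hP hΞ θ' hθ'
    rw [hgq θ' hθ'] at h1
    have h2 : ((Dn P Ξ (θ' : ↥CP → ℂ) : ℤ) : ℂ) =
        (((p : ℤ) * (un P Ξ (θ' : ↥CP → ℂ) : ℤ) -
          (if θ' ∈ MulAction.orbit ↥NP θ then ((p : ℤ) - 1) * a else 0) : ℤ) : ℂ) := by
      split_ifs at h1 ⊢
      · push_cast
        linear_combination h1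
      · push_cast
        linear_combination h1
    exact_mod_cast h2
  have hone := Cfsg.Agent.Lib.Helper92.BrauerHalf.apply_eq_sum_Theta P hP hcf
    (1 : ↥(P : Subgroup G))
  rw [OneMemClass.coe_one] at hone
  have hDle : ∀ θ' ∈ Theta P, Dn P Ξ (θ' : ↥CP → ℂ) ≤ charDegree Ξ :=
    fun θ' hθ' => Dn_le_charDegree P hP hΞ θ' hθ'
  have hpz : (2 : ℤ) ≤ (p : ℤ) := by exact_mod_cast hp2
  have h7 : ((charDegree Ξ : ℤ) + 2 ≤ (p : ℤ)) := by exact_mod_cast hdeg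
  -- first `a = 1`
  have ha1 : a = 1 := by
    rcases ha with h | h
    · exact h
    · exfalso
      have h1 := hD θ hθ
      rw [if_pos (MulAction.mem_orbit_self θ), h] at h1
      have h2 := hDle θ hθ
      have h3 : (0 : ℤ) ≤ (un P Ξ (θ : ↥CP → ℂ) : ℤ) := Int.natCast_nonneg _
      have h4 : (0 : ℤ) ≤ (p : ℤ) * (un P Ξ (θ : ↥CP → ℂ) : ℤ) :=
        mul_nonneg (Int.natCast_nonneg _) h3
      have h5 : ((p : ℤ) - 1) ≤ (Dn P Ξ (θ : ↥CP → ℂ) : ℤ) := by rw [h1]; linarith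
      have h6 : (Dn P Ξ (θ : ↥CP → ℂ) : ℤ) ≤ (charDegree Ξ : ℤ) := by exact_mod_cast h2
      linarith
  -- the value of `D`
  have hDval : ∀ θ' ∈ Theta P, (Dn P Ξ (θ' : ↥CP → ℂ) : ℤ) =
      if θ' ∈ MulAction.orbit ↥NP θ then 1 else 0 := by
    intro θ' hθ'
    have h1 := hD θ' hθ'
    have h2 : (Dn P Ξ (θ' : ↥CP → ℂ) : ℤ) ≤ (charDegree Ξ : ℤ) := by exact_mod_cast hDle θ' hθ'
    have hule : (un P Ξ (θ' : ↥CP → ℂ) : ℤ) ≤ (Dn P Ξ (θ' : ↥CP → ℂ) : ℤ) := by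
      exact_mod_cast un_le_Dn P hP hΞ θ' hθ'
    have hu0 : (0 : ℤ) ≤ (un P Ξ (θ' : ↥CP → ℂ) : ℤ) := Int.natCast_nonneg _
    rw [ha1] at h1
    split_ifs at h1 ⊢ with horb
    · have hu1 : (1 : ℤ) ≤ (un P Ξ (θ' : ↥CP → ℂ) : ℤ) := by
        by_contra hcon
        have : (un P Ξ (θ' : ↥CP → ℂ) : ℤ) = 0 := by omega
        rw [this] at h1 hule
        nlinarith
      have hu2 : (un P Ξ (θ' : ↥CP → ℂ) : ℤ) ≤ 1 := by
        by_contra hcon
        have : (2 : ℤ) ≤ (un P Ξ (θ' : ↥CP → ℂ) : ℤ) := by omega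
        nlinarith
      have : (un P Ξ (θ' : ↥CP → ℂ) : ℤ) = 1 := le_antisymm hu2 hu1
      rw [h1, this]; ring
    · have hu2 : (un P Ξ (θ' : ↥CP → ℂ) : ℤ) ≤ 0 := by
        by_contra hcon
        have : (1 : ℤ) ≤ (un P Ξ (θ' : ↥CP → ℂ) : ℤ) := by omega
        nlinarith
      have : (un P Ξ (θ' : ↥CP → ℂ) : ℤ) = 0 := le_antisymm hu2 hu0
      rw [h1, this]; ring
  -- all parts are constant on `P`
  have hconst : ∀ θ' ∈ Theta P, ∀ y : ↥(P : Subgroup G),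
      fpart p CP Ξ (θ' : ↥CP → ℂ) (y : G) = fpart p CP Ξ (θ' : ↥CP → ℂ) 1 := by
    intro θ' hθ' y
    by_cases hy : y = 1
    · rw [hy, OneMemClass.coe_one]
    · rw [hfp θ' hθ' y hy, Dn_spec P hP hΞ θ' hθ']
      have h0 := hDval θ' hθ'
      have h0' : (Dn P Ξ (θ' : ↥CP → ℂ) : ℂ) = if θ' ∈ MulAction.orbit ↥NP θ then 1 else 0 := by
        have : ((Dn P Ξ (θ' : ↥CP → ℂ) : ℤ) : ℂ) =
            ((if θ' ∈ MulAction.orbit ↥NP θ then 1 else 0 : ℤ) : ℂ) := by rw [h0]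
        split_ifs at this ⊢
        · simpa using this
        · simpa using this
      rw [h0', ha1]
      simp
  intro y hy
  have h1 := Cfsg.Agent.Lib.Helper92.BrauerHalf.apply_eq_sum_Theta P hP hcf
    (⟨y, hy⟩ : ↥(P : Subgroup G))
  rw [show ((⟨y, hy⟩ : ↥(P : Subgroup G)) : G) = y from rfl] at h1
  rw [h1, hone]
  apply Finset.sum_congr rfl
  intro θ' hθ'
  rw [hconst θ' hθ' ⟨y, hy⟩]

end XType

end Cfsg.Agent.Lib.Helper75.PM2
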