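import Mathlib
import Cfsg.Agent.Lib.Helper75.PM2.XType

set_option autoImplicit false
set_option linter.unusedSectionVars false

/-!
# S4705 module [P-DATA-A], part 2 (helper75): the decomposition numbers of an exceptional
character of degree `p - 2`
-/

namespace Cfsg.Agent.Lib.Helper75.PM2

open Cfsg Cfsg.Agent.Lib.Helper78 Cfsg.Agent.Lib.Helper16 Cfsg.Agent.Lib.Helper3.DefOneGen
  Cfsg.Agent.Lib.Helper75.McKayOne Cfsg.Agent.Lib.Helper75.BHMods
  Cfsg.Agent.Lib.Helper75.BrauerHalf Cfsg.Agent.Lib.Helper75.BHSsum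
open scoped ComplexConjugate IsMulCommutative

universe u

section Dval

variable {G : Type u} [Group G] [Fintype G] {p : ℕ} [hp : Fact p.Prime] (P : Sylow p G)
  (hP : Nat.card P = p)
variable [Fintype ↥(Subgroup.centralizer ((P : Subgroup G) : Set G))] [Fintype ↥(P : Subgroup G)]
  [IsMulCommutative ↥(P : Subgroup G)] [Fintype (↥(P : Subgroup G) →* ℂˣ)]
  [Fintype ↥(Subgroup.normalizer ((P : Subgroup G) : Set G))]
variable {M : Ideal AlgInt}

local notation "CP" => Subgroup.centralizer ((P : Subgroup G) : Set G)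
local notation "NP" => Subgroup.normalizer ((P : Subgroup G) : Set G)

attribute [local instance] nAct

include hP in
/-- `|N_G(P) : C_G(P)|` divides `p - 1`. -/
theorem relIndex_dvd_pred : (CP).relIndex NP ∣ p - 1 := by
  have hcyc : IsCyclic ↥(P : Subgroup G) := isCyclic_of_prime_card hP
  have key := Subgroup.card_dvd_of_injective _
    (QuotientGroup.kerLift_injective (P : Subgroup G).normalizerMonoidHom)
  rw [Subgroup.normalizerMonoidHom_ker, ← Subgroup.index, ← Subgroup.relIndex] at key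
  rw [hcyc.card_mulAut, hP, Nat.totient_prime hp.out] at key
  exact key

include hP in
open scoped Classical in
/-- `|orbit| e = f`. -/
theorem card_orbit_mul (θ : IrrCharacter ↥CP) (hθ : θ ∈ Theta P) :
    ((Theta P).filter (fun θ' => θ' ∈ MulAction.orbit ↥NP θ)).card *
      (CP).relIndex (thetaStab P θ) = (CP).relIndex NP := by
  have hCN : CP ≤ NP := Subgroup.centralizer_le_normalizer _
  have hOcard : ((Theta P).filter (fun θ' => θ' ∈ MulAction.orbit ↥NP θ)).card =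
      (MulAction.orbit ↥NP θ).ncard := by
    rw [← Set.ncard_coe_finset]
    congr 1
    ext θ'
    simp only [Finset.coe_filter, Set.mem_ofPred_eq]
    constructor
    · exact fun h => h.2
    · intro h
      refine ⟨?_, h⟩
      obtain ⟨n, rfl⟩ := h
      exact (mem_Theta P _).mpr (smul_trivial_on P n θ ((mem_Theta P θ).mp hθ))
  have hCpos : 0 < Nat.card ↥CP := Nat.card_pos
  have h1 : (MulAction.stabilizer ↥NP θ).index =
      ((Theta P).filter (fun θ' => θ' ∈ MulAction.orbit ↥NP θ)).card := by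
    rw [MulAction.index_stabilizer, hOcard]
  have h2 := Subgroup.index_mul_card (MulAction.stabilizer ↥NP θ)
  rw [h1, card_stabilizer_eq, card_eq_card_mul_relIndex (centralizer_le_thetaStab P θ),
    card_eq_card_mul_relIndex hCN] at h2
  have h3 : (((Theta P).filter (fun θ' => θ' ∈ MulAction.orbit ↥NP θ)).card *
      (CP).relIndex (thetaStab P θ)) * Nat.card ↥CP = (CP).relIndex NP * Nat.card ↥CP := by
    rw [← h2]; ring
  exact Nat.eq_of_mul_eq_mul_right hCpos h3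

set_option maxHeartbeats 1000000 in
include hP in
open scoped Classical in
/-- the decomposition numbers of an exceptional character of degree `p - 2`. -/
theorem dval_pm2 (hM : IsPModular p M) (θ : IrrCharacter ↥CP) (hθ : θ ∈ Theta P)
    {B : Set (IrrCharacter G)} (hind : IsInducedBlock M CP (blockOf M (θ : ↥CP → ℂ)) B)
    (he : 2 * (CP).relIndex (thetaStab P θ) ≤ p - 1)
    (δ : ℤ) (hδ : δ = 1 ∨ δ = -1) (Y : Finset (IrrCharacter G))
    (ζ : (↥(P : Subgroup G) →* ℂˣ) → IrrCharacter G)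
    (hYB : ∀ η ∈ Y, η ∈ B)
    (hYsurj : ∀ η ∈ Y, ∃ ψ : ↥(P : Subgroup G) →* ℂˣ, ψ ≠ 1 ∧ ζ ψ = η)
    (hform : ∀ ψ : ↥(P : Subgroup G) →* ℂˣ, ψ ≠ 1 → ∀ y : ↥(P : Subgroup G), y ≠ 1 →
      fpart p CP (ζ ψ : G → ℂ) (θ : ↥CP → ℂ) (y : G) = (δ : ℂ) *
        ∑ᶠ ψ' ∈ {ψ' : ↥(P : Subgroup G) →* ℂˣ | ∃ n : G, n ∈ thetaStab P θ ∧
          ∀ w w' : ↥(P : Subgroup G), (w' : G) = n * (w : G) * n⁻¹ → ψ' w' = ψ w},
          ((ψ' y : ℂˣ) : ℂ))
    (hdegY : ∀ η ∈ Y, ∀ η' ∈ Y, (η : G → ℂ) 1 = (η' : G → ℂ) 1)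
    (χ : IrrCharacter G) (hχ : χ ∈ Y) (hdeg : charDegree (χ : G → ℂ) + 2 = p) (hp5 : 5 < p) :
    (δ = 1 ∧ (CP).relIndex NP = 1 ∧
      ∀ η ∈ Y, ∀ θ' ∈ Theta P, Dn P (η : G → ℂ) (θ' : ↥CP → ℂ) =
        if θ' ∈ MulAction.orbit ↥NP θ then 1 else 0) ∨
    (δ = -1 ∧ (CP).relIndex (thetaStab P θ) = 2 ∧
      ((Theta P).filter (fun θ' => θ' ∈ MulAction.orbit ↥NP θ)).card = 1 ∧
      charDegree (θ : ↥CP → ℂ) = 1 ∧
      ∀ η ∈ Y, ∀ θ' ∈ Theta P, Dn P (η : G → ℂ) (θ' : ↥CP → ℂ) =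
        if θ' ∈ MulAction.orbit ↥NP θ then p - 2 else 0) := by
  have hpp : p.Prime := hp.out
  have hp1 := hpp.one_lt
  set e := (CP).relIndex (thetaStab P θ) with he_def
  set k := ((Theta P).filter (fun θ' => θ' ∈ MulAction.orbit ↥NP θ)).card with hk_def
  have hke : k * e = (CP).relIndex NP := card_orbit_mul P hP θ hθ
  have hfdvd : (CP).relIndex NP ∣ p - 1 := relIndex_dvd_pred P hP
  have hepos : 0 < e := by
    apply Nat.pos_of_ne_zero
    rw [he_def]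
    unfold Subgroup.relIndex
    exact Subgroup.index_ne_zero_of_finite
  have hθorb : θ ∈ (Theta P).filter (fun θ' => θ' ∈ MulAction.orbit ↥NP θ) := by
    rw [Finset.mem_filter]
    exact ⟨hθ, MulAction.mem_orbit_self θ⟩
  have hkpos : 0 < k := Finset.card_pos.mpr ⟨θ, hθorb⟩
  have hdθpos : 0 < charDegree (θ : ↥CP → ℂ) := IsIrrCharacter.charDegree_pos θ.2
  -- degrees
  have hdegη : ∀ η ∈ Y, charDegree (η : G → ℂ) = charDegree (χ : G → ℂ) := by
    intro η hη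
    unfold charDegree
    rw [hdegY η hη χ hχ]
  -- the basic relation at `θ`
  have hrel : ∀ η ∈ Y, (Dn P (η : G → ℂ) (θ : ↥CP → ℂ) : ℤ) =
      (p : ℤ) * (un P (η : G → ℂ) (θ : ↥CP → ℂ) : ℤ) + δ * (e : ℤ) := by
    intro η hη
    obtain ⟨ψ, hψ, hζψ⟩ := hYsurj η hη
    have hg := gq_exc P hP θ ψ hψ (ζ ψ : G → ℂ) (δ : ℂ) (hform ψ hψ)
    rw [hζψ, un_spec P hP (IsIrrCharacter.isCharacter η.2) θ hθ] at hg
    have h1 : ((Dn P (η : G → ℂ) (θ : ↥CP → ℂ) : ℤ) : ℂ) =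
        (((p : ℤ) * (un P (η : G → ℂ) (θ : ↥CP → ℂ) : ℤ) + δ * (e : ℤ) : ℤ) : ℂ) := by
      push_cast
      linear_combination -hg
    exact_mod_cast h1
  have hDle : ∀ η ∈ Y, ∀ θ' ∈ Theta P,
      Dn P (η : G → ℂ) (θ' : ↥CP → ℂ) ≤ charDegree (χ : G → ℂ) := by
    intro η hη θ' hθ'
    rw [← hdegη η hη]
    exact Dn_le_charDegree P hP (IsIrrCharacter.isCharacter η.2) θ' hθ'
  have hdeg' : (charDegree (χ : G → ℂ) : ℤ) + 2 = (p : ℤ) := by exact_mod_cast hdeg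
  have hp' : (5 : ℤ) < (p : ℤ) := by exact_mod_cast hp5
  have hepos' : (0 : ℤ) < (e : ℤ) := by exact_mod_cast hepos
  have he' : 2 * (e : ℤ) ≤ (p : ℤ) - 1 := by
    have : ((2 * e : ℕ) : ℤ) ≤ ((p - 1 : ℕ) : ℤ) := by exact_mod_cast he
    rw [Nat.cast_pred hpp.pos] at this
    push_cast at this
    exact this
  -- off the orbit
  have hoff : ∀ η ∈ Y, ∀ θ' ∈ Theta P, θ' ∉ MulAction.orbit ↥NP θ →
      Dn P (η : G → ℂ) (θ' : ↥CP → ℂ) = 0 := by
    intro η hη θ' hθ' horb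
    have hηc : IsCharacter G (η : G → ℂ) := IsIrrCharacter.isCharacter η.2
    have hg := gq_of_root P hP hM θ hθ hind (hYB η hη) θ' hθ'
    rw [if_neg horb, un_spec P hP hηc θ' hθ'] at hg
    have h1 : ((Dn P (η : G → ℂ) (θ' : ↥CP → ℂ) : ℤ) : ℂ) =
        (((p : ℤ) * (un P (η : G → ℂ) (θ' : ↥CP → ℂ) : ℤ) : ℤ) : ℂ) := by
      push_cast
      linear_combination -hg
    have h1' : (Dn P (η : G → ℂ) (θ' : ↥CP → ℂ) : ℤ) =
        (p : ℤ) * (un P (η : G → ℂ) (θ' : ↥CP → ℂ) : ℤ) := by exact_mod_cast h1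
    have h3 := hDle η hη θ' hθ'
    have h3' : (Dn P (η : G → ℂ) (θ' : ↥CP → ℂ) : ℤ) ≤ (charDegree (χ : G → ℂ) : ℤ) := by
      exact_mod_cast h3
    have hu0 : (un P (η : G → ℂ) (θ' : ↥CP → ℂ) : ℤ) = 0 := by
      by_contra hc
      have : (1 : ℤ) ≤ (un P (η : G → ℂ) (θ' : ↥CP → ℂ) : ℤ) := by
        have : (0 : ℤ) ≤ (un P (η : G → ℂ) (θ' : ↥CP → ℂ) : ℤ) := Nat.cast_nonneg _
        omega
      nlinarith
    rw [hu0, mul_zero] at h1'
    exact_mod_cast h1'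
  -- on the orbit
  have hon : ∀ η ∈ Y, ∀ θ' ∈ Theta P, θ' ∈ MulAction.orbit ↥NP θ →
      Dn P (η : G → ℂ) (θ' : ↥CP → ℂ) = Dn P (η : G → ℂ) (θ : ↥CP → ℂ) ∧
        charDegree (θ' : ↥CP → ℂ) = charDegree (θ : ↥CP → ℂ) := by
    intro η hη θ' hθ' horb
    have hηc : IsCharacter G (η : G → ℂ) := IsIrrCharacter.isCharacter η.2
    obtain ⟨n, hn, rfl⟩ := (mem_orbit_iff P θ θ').mp horb
    refine ⟨Dn_thetaConj P (IsCharacter.isClassFunction hηc) n hn θ, ?_⟩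
    have h1 : (thetaConj P n hn θ : ↥CP → ℂ) 1 = (θ : ↥CP → ℂ) 1 := by
      rw [thetaConj_apply, map_one]
    have h2 : ((charDegree (thetaConj P n hn θ : ↥CP → ℂ) : ℕ) : ℂ) =
        ((charDegree (θ : ↥CP → ℂ) : ℕ) : ℂ) := by
      rw [← IsCharacter.apply_one_eq_charDegree (IsIrrCharacter.isCharacter (thetaConj P n hn θ).2),
        ← IsCharacter.apply_one_eq_charDegree (IsIrrCharacter.isCharacter θ.2), h1]
    exact_mod_cast h2
  -- the degree formula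
  have hdegform : ∀ η ∈ Y, charDegree (χ : G → ℂ) =
      Dn P (η : G → ℂ) (θ : ↥CP → ℂ) * (k * charDegree (θ : ↥CP → ℂ)) := by
    intro η hη
    have hηc : IsCharacter G (η : G → ℂ) := IsIrrCharacter.isCharacter η.2
    rw [← hdegη η hη, charDegree_eq_sum_Dn P hP hηc]
    have h1 : ∀ θ' ∈ Theta P, Dn P (η : G → ℂ) (θ' : ↥CP → ℂ) * charDegree (θ' : ↥CP → ℂ) =
        if θ' ∈ MulAction.orbit ↥NP θ then
          Dn P (η : G → ℂ) (θ : ↥CP → ℂ) * charDegree (θ : ↥CP → ℂ) else 0 := by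
      intro θ' hθ'
      split_ifs with horb
      · rw [(hon η hη θ' hθ' horb).1, (hon η hη θ' hθ' horb).2]
      · rw [hoff η hη θ' hθ' horb, zero_mul]
    rw [Finset.sum_congr rfl h1, ← Finset.sum_filter, Finset.sum_const, ← hk_def, smul_eq_mul]
    ring
  have hform0 := hdegform χ hχ
  have hrel0 := hrel χ hχ
  have hule : (un P (χ : G → ℂ) (θ : ↥CP → ℂ) : ℤ) ≤ (Dn P (χ : G → ℂ) (θ : ↥CP → ℂ) : ℤ) := by
    exact_mod_cast un_le_Dn P hP (IsIrrCharacter.isCharacter χ.2) θ hθ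
  have hu0 : (0 : ℤ) ≤ (un P (χ : G → ℂ) (θ : ↥CP → ℂ) : ℤ) := Nat.cast_nonneg _
  have hDleχ : (Dn P (χ : G → ℂ) (θ : ↥CP → ℂ) : ℤ) ≤ (charDegree (χ : G → ℂ) : ℤ) := by
    exact_mod_cast hDle χ hχ θ hθ
  have hkd : 0 < k * charDegree (θ : ↥CP → ℂ) := Nat.mul_pos hkpos hdθpos
  rcases hδ with h | h
  · -- `δ = 1`
    left
    rw [h, one_mul] at hrel0
    have hu : (un P (χ : G → ℂ) (θ : ↥CP → ℂ) : ℤ) = 0 := by
      by_contra hc
      have : (1 : ℤ) ≤ (un P (χ : G → ℂ) (θ : ↥CP → ℂ) : ℤ) := by omega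
      nlinarith
    rw [hu, mul_zero, zero_add] at hrel0
    have hDe : Dn P (χ : G → ℂ) (θ : ↥CP → ℂ) = e := by exact_mod_cast hrel0
    rw [hDe] at hform0
    -- `p - 2 = e k dθ = f dθ`
    have hf2 : (CP).relIndex NP ∣ p - 2 := by
      refine ⟨charDegree (θ : ↥CP → ℂ), ?_⟩
      rw [← hke]
      have : p - 2 = charDegree (χ : G → ℂ) := by omega
      rw [this, hform0]
      ring
    have hf1 : (CP).relIndex NP = 1 := by
      have h3 : (CP).relIndex NP ∣ (p - 1) - (p - 2) := Nat.dvd_sub hfdvd hf2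
      have h4 : (p - 1) - (p - 2) = 1 := by omega
      rw [h4] at h3
      exact Nat.dvd_one.mp h3
    refine ⟨h, hf1, ?_⟩
    have he1 : e = 1 := by
      rw [hf1] at hke
      exact Nat.eq_one_of_mul_eq_one_left hke
    intro η hη θ' hθ'
    split_ifs with horb
    · rw [(hon η hη θ' hθ' horb).1]
      have h1 := hrel η hη
      rw [h, one_mul, he1] at h1
      have h3 : (Dn P (η : G → ℂ) (θ : ↥CP → ℂ) : ℤ) ≤ (charDegree (χ : G → ℂ) : ℤ) := by
        exact_mod_cast hDle η hη θ hθ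
      have huη : (un P (η : G → ℂ) (θ : ↥CP → ℂ) : ℤ) = 0 := by
        by_contra hc
        have : (0 : ℤ) ≤ (un P (η : G → ℂ) (θ : ↥CP → ℂ) : ℤ) := Nat.cast_nonneg _
        have : (1 : ℤ) ≤ (un P (η : G → ℂ) (θ : ↥CP → ℂ) : ℤ) := by omega
        nlinarith
      rw [huη, mul_zero, zero_add] at h1
      exact_mod_cast h1
    · exact hoff η hη θ' hθ' horb
  · -- `δ = -1`
    right
    rw [h] at hrel0
    have hu1 : (un P (χ : G → ℂ) (θ : ↥CP → ℂ) : ℤ) = 1 := by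
      have h1 : (1 : ℤ) ≤ (un P (χ : G → ℂ) (θ : ↥CP → ℂ) : ℤ) := by
        by_contra hc
        have h0 : (un P (χ : G → ℂ) (θ : ↥CP → ℂ) : ℤ) = 0 := by omega
        rw [h0] at hrel0 hule
        linarith
      have h2 : (un P (χ : G → ℂ) (θ : ↥CP → ℂ) : ℤ) ≤ 1 := by
        by_contra hc
        have : (2 : ℤ) ≤ (un P (χ : G → ℂ) (θ : ↥CP → ℂ) : ℤ) := by omega
        nlinarith
      omega
    rw [hu1, mul_one] at hrel0
    -- `D = p - e ≥ (p+1)/2`, so `k dθ = 1`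
    have hkd1 : k * charDegree (θ : ↥CP → ℂ) = 1 := by
      by_contra hc
      have h2 : 2 ≤ k * charDegree (θ : ↥CP → ℂ) := by omega
      have h2' : (2 : ℤ) ≤ ((k * charDegree (θ : ↥CP → ℂ) : ℕ) : ℤ) := by exact_mod_cast h2
      have h3 : (charDegree (χ : G → ℂ) : ℤ) =
          (Dn P (χ : G → ℂ) (θ : ↥CP → ℂ) : ℤ) * ((k * charDegree (θ : ↥CP → ℂ) : ℕ) : ℤ) := by
        exact_mod_cast hform0
      have h4 : (0 : ℤ) ≤ (Dn P (χ : G → ℂ) (θ : ↥CP → ℂ) : ℤ) := Nat.cast_nonneg _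
      nlinarith
    have hk1 : k = 1 := Nat.eq_one_of_mul_eq_one_right hkd1
    have hd1 : charDegree (θ : ↥CP → ℂ) = 1 := Nat.eq_one_of_mul_eq_one_left hkd1
    rw [hkd1, mul_one] at hform0
    have he2 : e = 2 := by
      have h3 : (charDegree (χ : G → ℂ) : ℤ) = (Dn P (χ : G → ℂ) (θ : ↥CP → ℂ) : ℤ) :=
        congrArg (Nat.cast : ℕ → ℤ) hform0
      omega
    refine ⟨h, he2, hk1, hd1, ?_⟩
    intro η hη θ' hθ'
    rcases Classical.em (θ' ∈ MulAction.orbit ↥NP θ) with horb | horb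
    · rw [if_pos horb, (hon η hη θ' hθ' horb).1]
      have h1 := hdegform η hη
      rw [hkd1, mul_one] at h1
      rw [← h1]
      omega
    · rw [if_neg horb]
      exact hoff η hη θ' hθ' horb

end Dval

end Cfsg.Agent.Lib.Helper75.PM2
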