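import Mathlib
import Cfsg.Agent.Lib.Helper75.PM2.Dval

set_option autoImplicit false
set_option linter.unusedSectionVars false

/-!
# S4705 module [P-DATA-A], part 3 (helper75): the block of a faithful character of degree `p - 2`

`pm2_data`: if `|P| = p > 5`, `P` is not normal and `χ` is a faithful irreducible character of
degree `p - 2`, then the block of `χ` has a linear `N_G(P)`-invariant root `θ₀`, inertial index
`e = |N_G(P) : C_G(P)| = 2`, `χ` is exceptional, the exceptional characters have sign `δ = -1` and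
decomposition number `p - 2` at `θ₀`.
-/

namespace Cfsg.Agent.Lib.Helper75.PM2

open Cfsg Cfsg.Agent.Lib.Helper78 Cfsg.Agent.Lib.Helper16 Cfsg.Agent.Lib.Helper3.DefOneGen
  Cfsg.Agent.Lib.Helper75.McKayOne Cfsg.Agent.Lib.Helper75.BHMods
  Cfsg.Agent.Lib.Helper75.BrauerHalf Cfsg.Agent.Lib.Helper75.BHSsum
open scoped ComplexConjugate IsMulCommutative

universe u

section Main

variable {G : Type u} [Group G] [Fintype G] {p : ℕ} [hp : Fact p.Prime] (P : Sylow p G)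
  (hP : Nat.card P = p)
variable [Fintype ↥(Subgroup.centralizer ((P : Subgroup G) : Set G))] [Fintype ↥(P : Subgroup G)]
  [IsMulCommutative ↥(P : Subgroup G)] [Fintype (↥(P : Subgroup G) →* ℂˣ)]
  [Fintype ↥(Subgroup.normalizer ((P : Subgroup G) : Set G))]
variable {M : Ideal AlgInt}

local notation "CP" => Subgroup.centralizer ((P : Subgroup G) : Set G)
local notation "NP" => Subgroup.normalizer ((P : Subgroup G) : Set G)

attribute [local instance] nAct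

set_option maxHeartbeats 1000000 in
include hP in
open scoped Classical in
/-- **The block of a faithful irreducible character of degree `p - 2`.** -/
theorem pm2_data (hM : IsPModular p M) (hp5 : 5 < p) (hnn : ¬ (P : Subgroup G).Normal)
    (χ : IrrCharacter G) (hdeg : charDegree (χ : G → ℂ) + 2 = p)
    (hfaith : ∀ g : G, (χ : G → ℂ) g = (χ : G → ℂ) 1 → g = 1) :
    ∃ θ₀ : IrrCharacter ↥CP, θ₀ ∈ Theta P ∧
      IsInducedBlock M CP (blockOf M (θ₀ : ↥CP → ℂ)) (blockOf M (χ : G → ℂ)) ∧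
      charDegree (θ₀ : ↥CP → ℂ) = 1 ∧
      ((Theta P).filter (fun θ' => θ' ∈ MulAction.orbit ↥NP θ₀)).card = 1 ∧
      (CP).relIndex (thetaStab P θ₀) = 2 ∧ (CP).relIndex NP = 2 ∧
      ∃ (Y : Finset (IrrCharacter G)) (ζ : (↥(P : Subgroup G) →* ℂˣ) → IrrCharacter G),
        χ ∈ Y ∧ (∀ η ∈ Y, η ∈ blockOf M (χ : G → ℂ)) ∧
        (∀ Ξ ∈ blockOf M (χ : G → ℂ), Ξ ∉ Y → ∃ a : ℤ, (a = 1 ∨ a = -1) ∧
          ∀ y : G, y ∈ (P : Subgroup G) → y ≠ 1 →
            fpart p CP (Ξ : G → ℂ) (θ₀ : ↥CP → ℂ) y = (a : ℂ)) ∧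
        (∀ ψ : ↥(P : Subgroup G) →* ℂˣ, ψ ≠ 1 → ζ ψ ∈ Y) ∧
        (∀ η ∈ Y, ∃ ψ : ↥(P : Subgroup G) →* ℂˣ, ψ ≠ 1 ∧ ζ ψ = η) ∧
        (∀ ψ ψ' : ↥(P : Subgroup G) →* ℂˣ, ψ ≠ 1 → ψ' ≠ 1 →
          (ζ ψ = ζ ψ' ↔ ∃ n : G, n ∈ thetaStab P θ₀ ∧
            ∀ w w' : ↥(P : Subgroup G), (w' : G) = n * (w : G) * n⁻¹ → ψ' w' = ψ w)) ∧
        (∀ ψ : ↥(P : Subgroup G) →* ℂˣ, ψ ≠ 1 → ∀ y : ↥(P : Subgroup G), y ≠ 1 →
          fpart p CP (ζ ψ : G → ℂ) (θ₀ : ↥CP → ℂ) (y : G) =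
            -∑ᶠ ψ' ∈ {ψ' : ↥(P : Subgroup G) →* ℂˣ | ∃ n : G, n ∈ thetaStab P θ₀ ∧
              ∀ w w' : ↥(P : Subgroup G), (w' : G) = n * (w : G) * n⁻¹ → ψ' w' = ψ w},
              ((ψ' y : ℂˣ) : ℂ)) ∧
        (∀ η ∈ Y, ∀ θ' ∈ Theta P, Dn P (η : G → ℂ) (θ' : ↥CP → ℂ) =
          if θ' ∈ MulAction.orbit ↥NP θ₀ then p - 2 else 0) := by
  have hpp : p.Prime := hp.out
  have hMp : M.IsPrime := isPModular_isPrime hM
  have hχc : IsCharacter G (χ : G → ℂ) := IsIrrCharacter.isCharacter χ.2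
  have hdiv := dvd_card_of_card P hP
  have hsq := not_sq_dvd_of_card P hP
  have hdpos : 0 < charDegree (χ : G → ℂ) := IsIrrCharacter.charDegree_pos χ.2
  have hdvd : ¬ p ∣ charDegree (χ : G → ℂ) := Nat.not_dvd_of_pos_of_lt hdpos (by omega)
  have hd := (not_dvd_iff_pos_defect hM hdiv hsq χ).mp hdvd
  obtain ⟨-, b, θ₀, hind, hθ₀b, hθ₀P⟩ :=
    Cfsg.Agent.Lib.Helper75.DefOneGen.exists_root hM P hP (isPBlock_blockOf χ) hd
  have hb : b = blockOf M (θ₀ : ↥CP → ℂ) := IsPBlock_eq_blockOf hind.1 hθ₀b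
  rw [hb] at hind
  have hθ₀ : θ₀ ∈ Theta P := (mem_Theta P θ₀).mpr hθ₀P
  have hχB : χ ∈ blockOf M (χ : G → ℂ) := self_mem_blockOf hMp.ne_top χ
  -- `P` is not in the kernel of `χ`
  have hPnt : ∃ y : G, y ∈ (P : Subgroup G) ∧ y ≠ 1 := by
    by_contra hcon
    push Not at hcon
    have h1 : Nat.card (P : Subgroup G) = 1 := by
      rw [Nat.card_eq_one_iff_unique]
      refine ⟨⟨fun a b => ?_⟩, ⟨1⟩⟩
      apply Subtype.ext
      rw [hcon a a.2, hcon b b.2]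
    have : Nat.card P = 1 := h1
    rw [hP] at this
    exact hpp.one_lt.ne' this
  -- the nonexceptional case
  have hX : ∀ a : ℤ, (a = 1 ∨ a = -1) → (∀ y : G, y ∈ (P : Subgroup G) → y ≠ 1 →
      fpart p CP (χ : G → ℂ) (θ₀ : ↥CP → ℂ) y = (a : ℂ)) → False := by
    intro a ha hfa
    have hfp := fpart_of_root_const P hP hM θ₀ hθ₀ hind hχB (a : ℂ) hfa
    have hconst := const_of_xtype_pm2 P hP hχc hdeg.le θ₀ hθ₀ a ha hfp
    obtain ⟨y, hy, hy1⟩ := hPnt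
    exact hy1 (hfaith y (hconst y hy))
  rcases blk_data P hP hM θ₀ hθ₀P hind with hall | ⟨he, δ, Y, ζ, hδ, hYB, hXY, hζY, hYsurj,
    hiff, hform, hdegY⟩
  · obtain ⟨a, ha, hfa⟩ := hall χ hχB
    exact (hX a ha hfa).elim
  by_cases hχY : χ ∈ Y
  swap
  · obtain ⟨a, ha, hfa⟩ := hXY χ hχB hχY
    exact (hX a ha hfa).elim
  -- the exceptional case
  rcases dval_pm2 P hP hM θ₀ hθ₀ hind he δ hδ Y ζ hYB hYsurj hform hdegY χ hχY hdeg hp5 with
    ⟨hδ1, hf1, hD⟩ | ⟨hδ1, he2, hk1, hd1, hD⟩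
  · -- `δ = 1`: `P` would be central
    exfalso
    have hke := card_orbit_mul P hP θ₀ hθ₀
    rw [hf1] at hke
    have he1 : (CP).relIndex (thetaStab P θ₀) = 1 := Nat.eq_one_of_mul_eq_one_left hke
    have hk1 : ((Theta P).filter (fun θ' => θ' ∈ MulAction.orbit ↥NP θ₀)).card = 1 :=
      Nat.eq_one_of_mul_eq_one_right hke
    obtain ⟨ψ₀, hψ₀, hζψ₀⟩ := hYsurj χ hχY
    have hform1 : ∀ ψ : ↥(P : Subgroup G) →* ℂˣ, ψ ≠ 1 → ∀ y : ↥(P : Subgroup G), y ≠ 1 →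
        fpart p CP (ζ ψ : G → ℂ) (θ₀ : ↥CP → ℂ) (y : G) =
          ∑ᶠ ψ' ∈ {ψ' : ↥(P : Subgroup G) →* ℂˣ | ∃ n : G, n ∈ thetaStab P θ₀ ∧
            ∀ w w' : ↥(P : Subgroup G), (w' : G) = n * (w : G) * n⁻¹ → ψ' w' = ψ w},
            ((ψ' y : ℂˣ) : ℂ) := by
      intro ψ hψ y hy
      rw [hform ψ hψ y hy, hδ1]
      simp
    have hD' : ∀ η ∈ Y, ∀ θ' ∈ Theta P, Dn P (η : G → ℂ) (θ' : ↥CP → ℂ) =
        if θ' ∈ MulAction.orbit ↥NP θ₀ then (CP).relIndex (thetaStab P θ₀) else 0 := by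
      intro η hη θ' hθ'
      rw [hD η hη θ' hθ', he1]
    -- the class of `ψ₀` is `{ψ₀}`
    have hclass : Finset.univ.filter (fun ψ' : ↥(P : Subgroup G) →* ℂˣ =>
        relT P (thetaStab P θ₀) ψ₀ ψ') = {ψ₀} := by
      have hc := card_class P hP θ₀ hψ₀
      rw [he1] at hc
      obtain ⟨ψ₁, hψ₁⟩ := Finset.card_eq_one.mp hc
      have hmem : ψ₀ ∈ Finset.univ.filter (fun ψ' : ↥(P : Subgroup G) →* ℂˣ =>
          relT P (thetaStab P θ₀) ψ₀ ψ') := by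
        rw [Finset.mem_filter]
        refine ⟨Finset.mem_univ _, 1, Subgroup.one_mem _, ?_⟩
        intro w w' hw
        have : w' = w := Subtype.ext (by rw [hw]; simp)
        rw [this]
      rw [hψ₁, Finset.mem_singleton] at hmem
      rw [hψ₁, hmem]
    have hfp : ∀ y : ↥(P : Subgroup G),
        fpart p CP (χ : G → ℂ) (θ₀ : ↥CP → ℂ) (y : G) = ((ψ₀ y : ℂˣ) : ℂ) := by
      intro y
      have h1 := fpart_exc P hP θ₀ hθ₀ Y ζ hζY hform1 hD' ψ₀ hψ₀ y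
      rw [hζψ₀, hclass, Finset.sum_singleton] at h1
      exact h1
    -- orbit = {θ₀}
    obtain ⟨θ₁, hθ₁⟩ := Finset.card_eq_one.mp hk1
    have hθ₀orb : θ₀ ∈ (Theta P).filter (fun θ' => θ' ∈ MulAction.orbit ↥NP θ₀) := by
      rw [Finset.mem_filter]
      exact ⟨hθ₀, MulAction.mem_orbit_self θ₀⟩
    have hθ₁eq : θ₁ = θ₀ := by
      rw [hθ₁, Finset.mem_singleton] at hθ₀orb
      exact hθ₀orb.symm
    rw [hθ₁eq] at hθ₁
    have hcf : IsClassFunction G (χ : G → ℂ) := IsCharacter.isClassFunction hχc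
    have hval : ∀ y : ↥(P : Subgroup G), (χ : G → ℂ) (y : G) =
        ((ψ₀ y : ℂˣ) : ℂ) * (θ₀ : ↥CP → ℂ) 1 := by
      intro y
      rw [Cfsg.Agent.Lib.Helper92.BrauerHalf.apply_eq_sum_Theta P hP hcf y]
      have h2 : ∀ θ' ∈ Theta P, fpart p CP (χ : G → ℂ) (θ' : ↥CP → ℂ) (y : G) *
          (θ' : ↥CP → ℂ) 1 = if θ' ∈ MulAction.orbit ↥NP θ₀ then
            ((ψ₀ y : ℂˣ) : ℂ) * (θ₀ : ↥CP → ℂ) 1 else 0 := by
        intro θ' hθ'
        split_ifs with horb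
        · have hmem : θ' ∈ (Theta P).filter (fun θ' => θ' ∈ MulAction.orbit ↥NP θ₀) := by
            rw [Finset.mem_filter]; exact ⟨hθ', horb⟩
          rw [hθ₁, Finset.mem_singleton] at hmem
          rw [hmem, hfp y]
        · by_cases hy : y = 1
          · subst hy
            have h1 : ((1 : ↥(P : Subgroup G)) : G) = 1 := rfl
            rw [h1, Dn_spec P hP hχc θ' hθ', hD χ hχY θ' hθ', if_neg horb]
            simp
          · rw [fpart_eq_zero_off_orbit P hP hM θ₀ hθ₀ hind hχB θ' hθ' horb y hy, zero_mul]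
      rw [Finset.sum_congr rfl h2, ← Finset.sum_filter, hθ₁, Finset.sum_singleton]
    have hnormψ : ∀ y : ↥(P : Subgroup G), ‖((ψ₀ y : ℂˣ) : ℂ)‖ = 1 := by
      intro y
      have hpow : (((ψ₀ y : ℂˣ) : ℂ)) ^ orderOf y = 1 := by
        rw [← Units.val_pow_eq_pow_val, ← map_pow, pow_orderOf_eq_one, map_one, Units.val_one]
      exact Complex.norm_eq_one_of_pow_eq_one hpow (orderOf_pos y).ne'
    have hcentral : ∀ y : ↥(P : Subgroup G), (y : G) ∈ Subgroup.center G := by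
      intro y
      apply Cfsg.Agent.Lib.Helper80GP.mem_center_of_norm_eq χ.2 hfaith
      have h1 := hval y
      have h2 := hval 1
      rw [map_one, Units.val_one, one_mul] at h2
      have h3 : ((1 : ↥(P : Subgroup G)) : G) = 1 := rfl
      rw [h3] at h2
      rw [h1, h2, norm_mul, hnormψ y, one_mul]
    apply hnn
    constructor
    intro n hn g
    have := Subgroup.mem_center_iff.mp (hcentral ⟨n, hn⟩) g
    have h2 : g * n * g⁻¹ = n := by
      have h3 : g * n = n * g := this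
      rw [h3, mul_inv_cancel_right]
    rw [h2]
    exact hn
  · -- `δ = -1`
    have hke := card_orbit_mul P hP θ₀ hθ₀
    rw [hk1, he2, one_mul] at hke
    refine ⟨θ₀, hθ₀, hind, hd1, hk1, he2, hke.symm, Y, ζ, hχY, hYB, hXY, hζY, hYsurj, hiff, ?_, hD⟩
    intro ψ hψ y hy
    rw [hform ψ hψ y hy, hδ1]
    simp

end Main

end Cfsg.Agent.Lib.Helper75.PM2
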