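import Mathlib
import Cfsg.Agent.Lib.Helper75.PM2.Main

set_option autoImplicit false
set_option linter.unusedSectionVars false

/-!
# S4705 module [P-DATA-A], part 4 (helper75): inertial index two

If `|T : C_G(P)| = 2` then some element of `T` inverts `P`, and the `T`-class of a nontrivial
character `ψ` of `P` is `{ψ, ψ⁻¹}`.
-/

namespace Cfsg.Agent.Lib.Helper75.PM2

open Cfsg Cfsg.Agent.Lib.Helper78 Cfsg.Agent.Lib.Helper16 Cfsg.Agent.Lib.Helper3.DefOneGen
  Cfsg.Agent.Lib.Helper75.McKayOne Cfsg.Agent.Lib.Helper75.BHMods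
  Cfsg.Agent.Lib.Helper75.BrauerHalf Cfsg.Agent.Lib.Helper75.BHSsum
open scoped ComplexConjugate IsMulCommutative

universe u

section Cls

variable {G : Type u} [Group G] [Fintype G] {p : ℕ} [hp : Fact p.Prime] (P : Sylow p G)
  (hP : Nat.card P = p)
variable [Fintype ↥(Subgroup.centralizer ((P : Subgroup G) : Set G))] [Fintype ↥(P : Subgroup G)]
  [IsMulCommutative ↥(P : Subgroup G)] [Fintype (↥(P : Subgroup G) →* ℂˣ)]
  [Fintype ↥(Subgroup.normalizer ((P : Subgroup G) : Set G))]
variable {M : Ideal AlgInt}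

local notation "CP" => Subgroup.centralizer ((P : Subgroup G) : Set G)
local notation "NP" => Subgroup.normalizer ((P : Subgroup G) : Set G)

attribute [local instance] nAct

include hP in
/-- If `|T : C_G(P)| = 2` then some element of `T` inverts `P`. -/
theorem exists_inverting (T : Subgroup G) (hTN : T ≤ NP) (h2 : (CP).relIndex T = 2) :
    ∃ n : G, n ∈ T ∧ ∀ w : ↥(P : Subgroup G), n * (w : G) * n⁻¹ = (w : G)⁻¹ := by
  have hex : ∃ n : G, n ∈ T ∧ n ∉ CP := by
    by_contra hcon
    push Not at hcon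
    have hle : T ≤ CP := fun n hn => hcon n hn
    rw [Subgroup.relIndex_eq_one.mpr hle] at h2
    omega
  obtain ⟨n, hnT, hnC⟩ := hex
  refine ⟨n, hnT, ?_⟩
  have hn2 : n ^ 2 ∈ CP := by
    have := Subgroup.sq_mem_of_index_two (H := (CP).subgroupOf T) h2 ⟨n, hnT⟩
    rwa [Subgroup.mem_subgroupOf] at this
  have hnN : n ∈ NP := hTN hnT
  -- conjugation by `n` as a map of `P`
  have hconj : ∀ w : ↥(P : Subgroup G), n * (w : G) * n⁻¹ ∈ (P : Subgroup G) := fun w =>
    (Subgroup.mem_normalizer_iff.mp hnN (w : G)).mp w.2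
  let α : ↥(P : Subgroup G) →* ↥(P : Subgroup G) :=
    { toFun := fun w => ⟨n * (w : G) * n⁻¹, hconj w⟩
      map_one' := by apply Subtype.ext; simp
      map_mul' := fun a b => by apply Subtype.ext; simp [mul_assoc] }
  have hα : ∀ w : ↥(P : Subgroup G), ((α w : ↥(P : Subgroup G)) : G) = n * (w : G) * n⁻¹ :=
    fun _ => rfl
  have hαα : ∀ w : ↥(P : Subgroup G), α (α w) = w := by
    intro w
    apply Subtype.ext
    rw [hα, hα]
    have hc : n ^ 2 * (w : G) = (w : G) * n ^ 2 :=
      ((Subgroup.mem_centralizer_iff.mp hn2) (w : G) w.2).symm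
    calc n * (n * (w : G) * n⁻¹) * n⁻¹ = (n ^ 2 * (w : G)) * (n ^ 2)⁻¹ := by
          rw [pow_two]; group
      _ = (w : G) := by rw [hc, mul_inv_cancel_right]
  have hcomm : ∀ a b : ↥(P : Subgroup G), a * b = b * a := fun a b => mul_comm' a b
  let F : Subgroup ↥(P : Subgroup G) := α.eqLocus (MonoidHom.id _)
  have hprime : Fact (Nat.card ↥(P : Subgroup G)).Prime := ⟨by rw [show Nat.card ↥(P : Subgroup G) = p from hP]; exact hp.out⟩
  rcases Subgroup.eq_bot_or_eq_top_of_prime_card F with hF | hF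
  · intro w
    have hmem : w * α w ∈ F := by
      show α (w * α w) = MonoidHom.id _ (w * α w)
      rw [map_mul, hαα, MonoidHom.id_apply, hcomm]
    rw [hF, Subgroup.mem_bot] at hmem
    have h1 : α w = w⁻¹ := eq_inv_of_mul_eq_one_right hmem
    have := congrArg (fun x : ↥(P : Subgroup G) => (x : G)) h1
    simpa [hα] using this
  · exfalso
    apply hnC
    rw [Subgroup.mem_centralizer_iff]
    intro y hy
    have hmem : (⟨y, hy⟩ : ↥(P : Subgroup G)) ∈ F := by rw [hF]; exact Subgroup.mem_top _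
    have h1 : α ⟨y, hy⟩ = ⟨y, hy⟩ := hmem
    have h2 := congrArg (fun x : ↥(P : Subgroup G) => (x : G)) h1
    simp only [hα] at h2
    exact (mul_inv_eq_iff_eq_mul.mp h2).symm

end Cls

end Cfsg.Agent.Lib.Helper75.PM2
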